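import Groth.Prelude.Def_Cyc
import Groth.Agent.Lib.AffDom.Formula
import Mathlib.AlgebraicGeometry.Stalk
import Mathlib.Order.KrullDimension

/-!
# Dimension functions compute dimensions of local rings of closures of points
-/

universe u

open CategoryTheory AlgebraicGeometry

namespace GrothLib.CycBasic

variable {X : Scheme.{u}}

theorem fromSpecStalk_comap_closedPoint {x ξ : X} (h : ξ ⤳ x) :
    (X.fromSpecStalk x) (PrimeSpectrum.comap (X.presheaf.stalkSpecializes h).hom
      (IsLocalRing.closedPoint (X.presheaf.stalk ξ))) = ξ := by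
  have e := congrArg (fun g : Spec (X.presheaf.stalk ξ) ⟶ X => g (IsLocalRing.closedPoint (X.presheaf.stalk ξ)))
    (Scheme.SpecMap_stalkSpecializes_fromSpecStalk h)
  exact e.trans (Scheme.fromSpecStalk_closedPoint (X := X) (x := ξ))

theorem ker_specMap {x ξ : X} (h : ξ ⤳ x) :
    RingHom.ker (Cyc.specMap x ξ h) = (PrimeSpectrum.comap (X.presheaf.stalkSpecializes h).hom
      (IsLocalRing.closedPoint (X.presheaf.stalk ξ))).asIdeal := by
  ext a
  show IsLocalRing.residue (X.presheaf.stalk ξ) ((X.presheaf.stalkSpecializes h).hom a) = 0 ↔ _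
  rw [IsLocalRing.residue_eq_zero_iff]
  rfl

theorem le_iff_specializes {x : X} {P Q : PrimeSpectrum (X.presheaf.stalk x)} :
    P ≤ Q ↔ (X.fromSpecStalk x P) ⤳ (X.fromSpecStalk x Q) := by
  rw [PrimeSpectrum.le_iff_specializes]
  exact ((X.fromSpecStalk x).isEmbedding.isInducing.specializes_iff).symm

theorem specializes_fromSpecStalk {x : X} (P : PrimeSpectrum (X.presheaf.stalk x)) :
    (X.fromSpecStalk x P) ⤳ x := by
  have h : (X.fromSpecStalk x P) ∈ {y | y ⤳ x} := by
    rw [← Scheme.range_fromSpecStalk]; exact ⟨P, rfl⟩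
  exact h

theorem exists_fromSpecStalk_eq {x z : X} (h : z ⤳ x) :
    ∃ P : PrimeSpectrum (X.presheaf.stalk x), X.fromSpecStalk x P = z :=
  ⟨_, fromSpecStalk_comap_closedPoint h⟩

theorem coheight_eq {δ : X → ℤ} (hδ : Cyc.IsDimFun X δ) (x : X) : ∀ (n : ℕ)
    (P : PrimeSpectrum (X.presheaf.stalk x)), δ (X.fromSpecStalk x P) = δ x + n → Order.coheight P = n := by
  intro n
  induction n using Nat.strong_induction_on with
  | _ n ih =>
  intro P hP
  have hinj := (X.fromSpecStalk x).isEmbedding.injective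
  have hlt : ∀ Q, P < Q → δ x ≤ δ (X.fromSpecStalk x Q) ∧ δ (X.fromSpecStalk x Q) < δ x + n := by
    intro Q hQ
    have h1 := (hδ _ _ (le_iff_specializes.1 hQ.le) fun e => hQ.ne (hinj e)).1
    refine ⟨?_, by omega⟩
    by_cases hQx : X.fromSpecStalk x Q = x
    · rw [hQx]
    · exact ((hδ _ _ (specializes_fromSpecStalk Q) hQx).1).le
  have hco : ∀ Q, P < Q → ∃ m : ℕ, m < n ∧ δ (X.fromSpecStalk x Q) = δ x + m ∧ Order.coheight Q = m := by
    intro Q hQ
    obtain ⟨h1, h2⟩ := hlt Q hQ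
    exact ⟨(δ (X.fromSpecStalk x Q) - δ x).toNat, by omega, by omega, ih _ (by omega) Q (by omega)⟩
  refine le_antisymm (Order.coheight_le_coe_iff.2 fun Q hQ => ?_) ?_
  · obtain ⟨m, hm, -, hmQ⟩ := hco Q hQ
    rw [hmQ]
    exact_mod_cast hm
  rcases Nat.eq_zero_or_pos n with rfl | hn
  · simp
  have hne : X.fromSpecStalk x P ≠ x := fun e => by rw [e] at hP; omega
  let M : PrimeSpectrum (X.presheaf.stalk x) := IsLocalRing.closedPoint _
  have hM : X.fromSpecStalk x M = x := Scheme.fromSpecStalk_closedPoint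
  classical
  have hex : ∃ k : ℕ, ∃ Q, P < Q ∧ δ (X.fromSpecStalk x Q) + k = δ x + n := by
    refine ⟨n, M, lt_of_le_of_ne (le_iff_specializes.2 ?_) fun e => hne (e ▸ hM), by rw [hM]⟩
    rw [hM]
    exact specializes_fromSpecStalk P
  obtain ⟨Q, hQ, hQk⟩ := Nat.find_spec hex
  have himm : δ (X.fromSpecStalk x P) = δ (X.fromSpecStalk x Q) + 1 := by
    refine (hδ _ _ (le_iff_specializes.1 hQ.le) fun e => hQ.ne (hinj e)).2 fun z hz1 hz2 => ?_
    by_contra hc
    push Not at hc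
    obtain ⟨R, rfl⟩ := exists_fromSpecStalk_eq (hz2.trans (specializes_fromSpecStalk Q))
    have hPR : P < R := lt_of_le_of_ne (le_iff_specializes.2 hz1) fun e => hc.1 (by rw [e])
    have h1 := (hδ _ _ hz2 hc.2).1
    have h2 := (hlt R hPR).2
    refine Nat.find_min hex (m := (δ x + n - δ (X.fromSpecStalk x R)).toNat) (by omega) ⟨R, hPR, by omega⟩
  obtain ⟨m, hm, hmδ, hmQ⟩ := hco Q hQ
  calc (n : ℕ∞) = (m : ℕ∞) + 1 := by exact_mod_cast (show n = m + 1 by omega)
    _ ≤ Order.coheight P := by rw [← hmQ]; exact Order.coheight_add_one_le hQ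

theorem delta_le {δ : X → ℤ} (hδ : Cyc.IsDimFun X δ) {x ξ : X} (h : ξ ⤳ x) : δ x ≤ δ ξ := by
  rcases eq_or_ne ξ x with rfl | hne
  · exact le_rfl
  · exact (hδ ξ x h hne).1.le

/-- The local ring at `x` of the closure of `ξ` has dimension `δ ξ - δ x`. -/
theorem ringKrullDim_locQuot {δ : X → ℤ} (hδ : Cyc.IsDimFun X δ) (x ξ : X) (h : ξ ⤳ x) :
    ringKrullDim (Cyc.LocQuot x ξ h) = ((δ ξ - δ x).toNat : WithBot ℕ∞) := by
  have hle := delta_le hδ h
  show ringKrullDim (X.presheaf.stalk x ⧸ RingHom.ker (Cyc.specMap x ξ h)) = _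
  rw [ringKrullDim_eq_of_ringEquiv (Ideal.quotEquivOfEq (ker_specMap h)),
    GrothLib.AffDom.ringKrullDim_quotient_eq_coheight,
    coheight_eq hδ x (δ ξ - δ x).toNat _ (by rw [fromSpecStalk_comap_closedPoint]; omega)]
  rfl

end GrothLib.CycBasic
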