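import Groth.Prelude.Def_Cyc
import Mathlib.LinearAlgebra.Dimension.Free
import Mathlib.Algebra.BigOperators.Finprod

/-!
# Functoriality of the pushforward of cycles
-/

universe u

open AlgebraicGeometry CategoryTheory

namespace GrothLib.CycBasic

theorem residueDegree_comp {X Y Z : Scheme.{u}} (f : X ⟶ Y) (g : Y ⟶ Z) (x : X) :
    (f ≫ g).residueDegree x = g.residueDegree (f x) * f.residueDegree x := by
  let a := (g.residueFieldMap (f x)).hom
  let b := (f.residueFieldMap x).hom
  have hc : ((f ≫ g).residueFieldMap x).hom = b.comp a := by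
    rw [Scheme.residueFieldMap_comp]; rfl
  unfold Scheme.Hom.residueDegree
  letI : Algebra (Z.residueField (g (f x))) (Y.residueField (f x)) := a.toAlgebra
  letI : Algebra (Y.residueField (f x)) (X.residueField x) := b.toAlgebra
  letI i3 : Algebra (Z.residueField (g (f x))) (X.residueField x) := ((f ≫ g).residueFieldMap x).hom.toAlgebra
  haveI : IsScalarTower (Z.residueField (g (f x))) (Y.residueField (f x)) (X.residueField x) :=
    IsScalarTower.of_algebraMap_eq' hc
  exact (Module.finrank_mul_finrank (Z.residueField (g (f x))) (Y.residueField (f x)) (X.residueField x)).symm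

theorem mapCoeff_comp {X Y Z : Scheme.{u}} (f : X ⟶ Y) (g : Y ⟶ Z) (δX : X → ℤ) (δY : Y → ℤ) (δZ : Z → ℤ)
    (hf : Cyc.DeltaCompat f δX δY) (hg : Cyc.DeltaCompat g δY δZ) (x : X) :
    AlgebraicCycle.mapCoeff (f ≫ g) δX δZ x =
      AlgebraicCycle.mapCoeff g δY δZ (f x) * AlgebraicCycle.mapCoeff f δX δY x := by
  obtain ⟨n, -, hn⟩ := hf x
  obtain ⟨m, -, hm⟩ := hg (f x)
  have e : (f ≫ g).base x = g (f x) := rfl
  unfold AlgebraicCycle.mapCoeff
  by_cases h : δX x = δZ ((f ≫ g).base x)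
  · have h1 : δY (f x) = δZ (g (f x)) := by rw [e] at h; omega
    have h2 : δX x = δY (f.base x) := by rw [e] at h; show δX x = δY (f x); omega
    rw [if_pos h, if_pos (show δY (f x) = δZ (g.base (f x)) from h1), if_pos h2, residueDegree_comp]
  · rw [if_neg h]
    by_cases h2 : δX x = δY (f.base x)
    · rw [if_neg (show ¬ δY (f x) = δZ (g.base (f x)) from fun h1 => h (h2.trans h1)), zero_mul]
    · rw [if_neg h2, mul_zero]

theorem finite_support_inter_fibre {X Y : Scheme.{u}} (f : X ⟶ Y) [QuasiCompact f] (α : AlgebraicCycle X ℤ)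
    (y : Y) : (Function.support α ∩ f ⁻¹' {y}).Finite := by
  obtain ⟨U, hU, hy, -⟩ := exists_isAffineOpen_mem_and_subset (x := y) (U := ⊤) trivial
  have hK : IsCompact (f ⁻¹' (U : Set Y)) := f.isSpectralMap.2 U.2 hU.isCompact
  exact (α.locallyFiniteSupport.finite_inter_support_of_isCompact hK).subset fun x hx =>
    ⟨show f x ∈ (U : Set Y) by rw [show f x = y from hx.2]; exact hy, hx.1⟩

theorem map_map {X Y Z : Scheme.{u}} (f : X ⟶ Y) (g : Y ⟶ Z) [QuasiCompact f] [QuasiCompact g]
    (δX : X → ℤ) (δY : Y → ℤ) (δZ : Z → ℤ)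
    (hf : Cyc.DeltaCompat f δX δY) (hg : Cyc.DeltaCompat g δY δZ) (α : AlgebraicCycle X ℤ) :
    AlgebraicCycle.map g δY δZ (AlgebraicCycle.map f δX δY α) = AlgebraicCycle.map (f ≫ g) δX δZ α := by
  classical
  ext z
  simp only [AlgebraicCycle.map, Function.locallyFinsupp.map_apply]
  have hfin : (Function.support α ∩ (f ≫ g) ⁻¹' {z}).Finite := finite_support_inter_fibre (f ≫ g) α z
  set S := hfin.toFinset
  let F : X → ℤ := fun x => α x * (AlgebraicCycle.mapCoeff (f ≫ g) δX δZ x : ℤ)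
  have hR : ∑ᶠ x ∈ (f ≫ g).base ⁻¹' {z}, F x = ∑ x ∈ S, F x := by
    refine finsum_mem_eq_sum_of_inter_support_eq _ ?_
    ext x
    simp only [S, Set.Finite.coe_toFinset, Set.mem_inter_iff, Function.mem_support, F]
    exact ⟨fun h => ⟨⟨left_ne_zero_of_mul h.2, h.1⟩, h.2⟩, fun h => ⟨h.1.2, h.2⟩⟩
  have hL : ∀ y : Y, g y = z →
      (∑ᶠ x ∈ f.base ⁻¹' {y}, α x * (AlgebraicCycle.mapCoeff f δX δY x : ℤ)) *
        (AlgebraicCycle.mapCoeff g δY δZ y : ℤ) = ∑ x ∈ S.filter (fun x => f x = y), F x := by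
    intro y hy
    rw [finsum_mem_eq_sum_of_inter_support_eq _ (t := S.filter fun x => f x = y), Finset.sum_mul]
    · refine Finset.sum_congr rfl fun x hx => ?_
      obtain rfl : f x = y := (Finset.mem_filter.1 hx).2
      simp only [F, mapCoeff_comp f g δX δY δZ hf hg x, Nat.cast_mul]
      ring
    · ext x
      simp only [S, Finset.coe_filter, Set.Finite.mem_toFinset, Set.mem_inter_iff, Function.mem_support,
        Set.mem_preimage, Set.mem_singleton_iff]
      constructor
      · rintro ⟨h1, h2⟩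
        refine ⟨⟨⟨left_ne_zero_of_mul h2, ?_⟩, h1⟩, h2⟩
        show g (f x) = z
        rw [show f x = y from h1, hy]
      · rintro ⟨h1, h2⟩
        exact ⟨h1.2, h2⟩
  rw [hR, finsum_mem_eq_sum_of_inter_support_eq _ (t := S.image (fun x => f x))]
  · rw [← Finset.sum_fiberwise_of_maps_to (g := fun x => f x) (t := S.image (fun x => f x))
      (fun x hx => Finset.mem_image_of_mem _ hx) F]
    refine Finset.sum_congr rfl fun y hy => hL y ?_
    obtain ⟨x, hx, rfl⟩ := Finset.mem_image.1 hy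
    exact ((Set.Finite.mem_toFinset hfin).1 hx).2
  · ext y
    constructor
    · rintro ⟨h1, h2⟩
      rw [Function.mem_support, hL y h1] at h2
      obtain ⟨x, hx, -⟩ := Finset.exists_ne_zero_of_sum_ne_zero h2
      rw [Finset.mem_filter] at hx
      exact ⟨Finset.mem_coe.2 (Finset.mem_image.2 ⟨x, hx⟩), by rwa [Function.mem_support, hL y h1]⟩
    · rintro ⟨hy, h2⟩
      obtain ⟨x, hx, rfl⟩ := Finset.mem_image.1 (Finset.mem_coe.1 hy)
      exact ⟨((Set.Finite.mem_toFinset hfin).1 hx).2, h2⟩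

end GrothLib.CycBasic
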