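import Groth.Agent.Lib.QCoh.ClosedImmersion
import Groth.Agent.Lib.HomSh.Criterion
import Groth.Prelude.Def_Coh
import Mathlib.RingTheory.Length

/-!
# Lengths of stalks of the direct image of a structure sheaf under a closed immersion
-/

universe u

open CategoryTheory AlgebraicGeometry TopologicalSpace

namespace GrothLib.CycBasic

theorem length_eq_of_surjective {R S : Type*} [CommRing R] [CommRing S] (f : R →+* S)
    (hf : Function.Surjective f) (M : Type*) [AddCommGroup M] [Module R M] [Module S M]
    (h : ∀ (r : R) (m : M), r • m = f r • m) : Module.length R M = Module.length S M := by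
  let e : Submodule R M ≃o Submodule S M :=
    { toFun := fun p => { p.toAddSubmonoid with
        smul_mem' := fun s m hm => by
          obtain ⟨r, rfl⟩ := hf s
          show f r • m ∈ p
          rw [← h]; exact p.smul_mem r hm }
      invFun := fun q => { q.toAddSubmonoid with
        smul_mem' := fun r m hm => by
          show r • m ∈ q
          rw [h]; exact q.smul_mem _ hm }
      left_inv := fun p => rfl
      right_inv := fun q => rfl
      map_rel_iff' := Iff.rfl }
  refine WithBot.coe_injective ?_
  rw [Module.coe_length, Module.coe_length]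
  exact Order.krullDim_eq_of_orderIso e

theorem length_push_stalk {X Z : Scheme.{u}} (i : Z ⟶ X) [IsClosedImmersion i] (z : Z) :
    Module.length (X.presheaf.stalk (i z))
        (((Coh.push i).obj (Coh.structureModule Z)).presheaf.stalk (i z)) =
      Module.length (Z.presheaf.stalk z) (Z.presheaf.stalk z) := by
  have hb := GrothLib.QCoh.pushStalkHom_bijective i z (Coh.structureModule Z) i.isClosedEmbedding.isInducing
  refine ((LinearEquiv.ofBijective _ hb).length_eq).trans (Eq.trans ?_ (GrothLib.HomSh.unitStalk z).length_eq.symm)
  exact length_eq_of_surjective (i.stalkMap z).hom (i.stalkMap_surjective z) _ fun r m => rfl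

theorem subsingleton_push_stalk {X Z : Scheme.{u}} (i : Z ⟶ X) [IsClosedImmersion i] (N : Z.Modules) {x : X}
    (hx : x ∉ Set.range i) : Subsingleton (((Coh.push i).obj N).presheaf.stalk x) := by
  let W : X.Opens := ⟨(Set.range i)ᶜ, i.isClosedEmbedding.isClosed_range.isOpen_compl⟩
  refine not_not.1 (GrothLib.QCoh.notMem_support_of_forall_subsingleton ((Coh.push i).obj N) (W := W)
    (fun V hV => ⟨fun a b => ?_⟩) hx)
  exact TopCat.Presheaf.section_ext ⟨N.presheaf, N.isSheaf⟩ (i ⁻¹ᵁ V) a b
    fun z hz => (hV hz ⟨z, rfl⟩).elim

end GrothLib.CycBasic
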