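import Groth.Agent.Lib.WeakAss.Basic
import Groth.Agent.Lib.FiniteLengthSupp
import Groth.Agent.Lib.QuasiFlat.Basic
import Groth.Agent.Lib.QCoh.SupportExact
import Mathlib.AlgebraicGeometry.Noetherian

/-!
# Finite length of stalks of coherent modules at maximal points of the support
-/

universe u

open CategoryTheory AlgebraicGeometry TopologicalSpace

namespace GrothLib.CycBasic

variable {X : Scheme.{u}}

theorem maximalIdeal_le_radical {F : X.Modules} [F.IsQuasicoherent] {x : X}
    (hmax : ∀ y : X, y ∈ CohB1.support F → y ⤳ x → y = x) {m : F.presheaf.stalk x} (hm : m ≠ 0) :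
    IsLocalRing.maximalIdeal (X.presheaf.stalk x) ≤
      Ideal.radical (LinearMap.ker (LinearMap.toSpanSingleton (X.presheaf.stalk x) (F.presheaf.stalk x) m)) := by
  obtain ⟨_, ⟨V, hV, rfl⟩, hxV, -⟩ :=
    X.isBasis_affineOpens.exists_subset_of_mem_open (Set.mem_univ x) isOpen_univ
  obtain ⟨c, z, hc, hz⟩ := GrothLib.WeakAss.exists_smul_eq_germ hV hxV m
  have hu : IsUnit (X.presheaf.germ V x hxV c) :=
    (Scheme.mem_basicOpen _ c x hxV).mp (GrothLib.WeakAss.notMem_primeAt_iff.mp hc)
  have hzne : F.presheaf.germ V x hxV z ≠ 0 := fun h0 => hm (hu.smul_eq_zero.mp (hz.trans h0))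
  have hmin : GrothLib.WeakAss.primeAt x hxV ∈ (GrothLib.WeakAss.annSec z).minimalPrimes := by
    refine ⟨⟨inferInstance, fun a ha => ?_⟩, ?_⟩
    · by_contra hap
      exact hzne ((GrothLib.WeakAss.germ_eq_zero_iff hV hxV z).mpr ⟨a, hap, GrothLib.WeakAss.mem_annSec.mp ha⟩)
    rintro q ⟨hq, hqa⟩ hqp
    let Q : PrimeSpectrum Γ(X, V) := ⟨q, hq⟩
    have hyV := GrothLib.WeakAss.fromSpec_mem hV Q
    have hsupp : hV.fromSpec Q ∈ CohB1.support F := by
      intro hsub
      obtain ⟨d, hd, hdz⟩ :=
        (GrothLib.WeakAss.germ_eq_zero_iff hV hyV z).mp (@Subsingleton.elim _ hsub _ _)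
      rw [GrothLib.WeakAss.primeAt_fromSpec hV Q hyV] at hd
      exact hd (hqa (GrothLib.WeakAss.mem_annSec.mpr hdz))
    obtain ⟨P, hP⟩ : x ∈ Set.range hV.fromSpec := hV.range_fromSpec.ge hxV
    have hPp : P.asIdeal = GrothLib.WeakAss.primeAt x hxV := by
      subst hP
      exact (GrothLib.WeakAss.primeAt_fromSpec hV P hxV).symm
    have hspec : hV.fromSpec Q ⤳ x := hP ▸ ((PrimeSpectrum.le_iff_specializes Q P).mp
      (hPp.symm ▸ hqp : Q.asIdeal ≤ P.asIdeal)).map hV.fromSpec.continuous
    have : Q = P := hV.fromSpec.isOpenEmbedding.injective ((hmax _ hsupp hspec).trans hP.symm)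
    exact (hPp.symm.trans (congrArg PrimeSpectrum.asIdeal this.symm)).le
  refine ((GrothLib.WeakAss.radical_eq_iff_minimal hV hxV z).mpr hmin).ge.trans
    (Ideal.radical_mono fun r hr => ?_)
  rw [LinearMap.mem_ker, LinearMap.toSpanSingleton_apply] at hr ⊢
  rw [← hz, smul_comm, hu.smul_eq_zero] at hr
  exact hr

theorem length_lt_top_of_maximal [IsLocallyNoetherian X] {F : X.Modules} (hF : Coh.IsCoh F) {x : X}
    (hmax : ∀ y : X, y ∈ CohB1.support F → y ⤳ x → y = x) :
    Module.length (X.presheaf.stalk x) (F.presheaf.stalk x) < ⊤ := by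
  haveI : F.IsQuasicoherent := hF.1
  haveI := GrothLib.QuasiFlat.finite_stalk F hF x
  haveI : IsNoetherianRing (X.presheaf.stalk x) := inferInstance
  refine GrothLib.FiniteLengthSupp.length_lt_top ?_
  have hss : Subsingleton (Module.support (X.presheaf.stalk x) (F.presheaf.stalk x)) := by
    refine ⟨fun P Q => ?_⟩
    have key : ∀ P : Module.support (X.presheaf.stalk x) (F.presheaf.stalk x),
        P.1.asIdeal = IsLocalRing.maximalIdeal (X.presheaf.stalk x) := by
      rintro ⟨P, hP⟩
      obtain ⟨m, hm⟩ := Module.mem_support_iff'.1 hP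
      have hm0 : m ≠ 0 := fun h => hm 1 (fun h1 => P.2.ne_top ((Ideal.eq_top_iff_one _).2 h1))
        (by rw [h, smul_zero])
      refine le_antisymm (IsLocalRing.le_maximalIdeal P.2.ne_top) ((maximalIdeal_le_radical hmax hm0).trans
        (P.2.radical_le_iff.2 fun r hr => ?_))
      by_contra hrP
      exact hm r hrP (by rwa [LinearMap.mem_ker, LinearMap.toSpanSingleton_apply] at hr)
    exact Subtype.ext (PrimeSpectrum.ext ((key P).trans (key Q).symm))
  exact Order.krullDim_nonpos_of_subsingleton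

theorem nontrivial_iff_mem_support {F : X.Modules} {x : X} :
    Nontrivial (F.presheaf.stalk x) ↔ x ∈ CohB1.support F :=
  not_subsingleton_iff_nontrivial.symm

theorem locallyFinite_components [IsLocallyNoetherian X] {T : Set X} (hT : IsClosed T) :
    LocallyFinite (fun Z : irreducibleComponents T => ((↑) '' (Z : Set T) : Set X)) := by
  intro x
  obtain ⟨U, hU, hxU, -⟩ := exists_isAffineOpen_mem_and_subset (x := x) (U := ⊤) trivial
  haveI : IsNoetherianRing Γ(X, U) := IsLocallyNoetherian.component_noetherian ⟨U, hU⟩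
  haveI : IsNoetherian (U : Scheme.{u}) := by
    haveI : IsAffine (U : Scheme.{u}) := hU
    exact {}
  haveI hn : NoetherianSpace (U : Set X) := inferInstanceAs (NoetherianSpace ((U : Scheme.{u}) : Type u))
  haveI hn' : NoetherianSpace {t : T // (t : X) ∈ U} := by
    let g : {t : T // (t : X) ∈ U} → (U : Set X) := fun t => ⟨t.1.1, t.2⟩
    have hg : Topology.IsInducing g := by
      have h2 : Topology.IsInducing (fun t : {t : T // (t : X) ∈ U} => (t.1.1 : X)) :=
        Topology.IsInducing.comp (g := (Subtype.val : T → X))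
          (f := (Subtype.val : {t : T // (t : X) ∈ U} → T))
          Topology.IsInducing.subtypeVal Topology.IsInducing.subtypeVal
      exact (Topology.IsInducing.subtypeVal (t := (U : Set X))).of_comp_iff.1 h2
    exact hg.noetherianSpace
  refine ⟨U, U.2.mem_nhds hxU, ?_⟩
  let j : {t : T // (t : X) ∈ U} → T := Subtype.val
  have hj : Topology.IsOpenEmbedding j := (U.2.preimage continuous_subtype_val).isOpenEmbedding_subtypeVal
  refine Set.Finite.of_finite_image (f := fun Z : irreducibleComponents T => j ⁻¹' (Z : Set T)) ?_ ?_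
  · refine NoetherianSpace.finite_irreducibleComponents.subset ?_
    rintro _ ⟨Z, ⟨y, ⟨t, htZ, rfl⟩, hyU⟩, rfl⟩
    exact preimage_mem_irreducibleComponents Z.2 hj ⟨t, htZ, ⟨t, hyU⟩, rfl⟩
  · intro Z hZ W hW h
    obtain ⟨y, ⟨t, htZ, rfl⟩, hyU⟩ := hZ
    obtain ⟨y', ⟨t', htW, rfl⟩, hyU'⟩ := hW
    have h1 : ∀ (Z : irreducibleComponents T) (t : T), t ∈ (Z : Set T) → (t : X) ∈ U →
        closure ((Z : Set T) ∩ Set.range j) = (Z : Set T) := fun Z t htZ htU =>
      le_antisymm (closure_minimal Set.inter_subset_left (isClosed_of_mem_irreducibleComponents _ Z.2))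
        (subset_closure_inter_of_isPreirreducible_of_isOpen Z.2.1.2 hj.isOpen_range ⟨t, htZ, ⟨t, htU⟩, rfl⟩)
    refine Subtype.ext ?_
    rw [← h1 Z t htZ hyU, ← h1 W t' htW hyU', ← Set.image_preimage_eq_inter_range,
      ← Set.image_preimage_eq_inter_range]
    exact congrArg (fun S => closure (j '' S)) h

end GrothLib.CycBasic
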